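import Cfsg.Agent.Lib.Sporadic.FiTransfer.Involutions.Cases
import Cfsg.Agent.Lib.Sporadic.FiTransfer.PairTwo.Statement
import Cfsg.Prelude.Def_SporadicB

/-!
# Involutory automorphisms fix a member; uniqueness of the class, type M(22)
-/

set_option autoImplicit false
set_option maxRecDepth 100000

open Cfsg.Spor
open CfsgLib.Sporadic.CosetCert CfsgLib.Sporadic.CosetCert.FiP CfsgLib.Sporadic.CosetCert.FiP.OutFi22
open CfsgLib.Sporadic.CosetCert.FiData (table)
open CfsgLib.Sporadic.FiTransfer.PairTwo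

namespace CfsgLib.Sporadic.FiTransfer.Involutions

attribute [local irreducible] PTab.img symAt

theorem inv_cases {a : ℕ} (ha : a < 128) (h : psi (uAC a) * psi (uAC a) = 1) :
    ∃ i < invT.length, (invT.getD i (128, false, 0)).1 = a := by
  have hk := List.all_eq_true.1 inv_ok a (List.mem_range.2 ha)
  rw [Bool.or_eq_true] at hk
  rcases hk with hk | hk
  · obtain ⟨e, he, hb⟩ := List.any_eq_true.1 hk
    obtain ⟨i, hi, rfl⟩ := List.mem_iff_getElem.1 he
    exact ⟨i, hi, by rw [List.getD_eq_getElem _ _ hi]; exact Nat.eq_of_beq_eq_true hb⟩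
  · exfalso
    obtain ⟨i, hi, hne⟩ := List.any_eq_true.1 hk
    rw [List.mem_range] at hi
    have e : (pm.getD a []).getD ((pm.getD a []).getD i 40) 40 = i := by
      have h1 := psi_uAC' ha ⟨i, hi⟩
      have h2 := psi_uAC' ha (psi (uAC a) ⟨i, hi⟩)
      rw [h1, ← Equiv.Perm.mul_apply, h, Equiv.Perm.one_apply] at h2
      exact h2.symm
    rw [Nat.beq_eq.mpr e] at hne
    exact Bool.noConfusion hne

theorem syl_form {x : MulAut Fi22} (hx : x ∈ sylA) (h2 : x * x = 1) :
    ∃ i < invT.length, ∃ v < 1024, ∃ b, x = jp b * qv v * uA (invT.getD i (128, false, 0)).1 ∧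
      (invT.getD i (128, false, 0)).1 < 128 := by
  obtain ⟨y, hy, rfl⟩ := hx
  obtain ⟨a, ha, e⟩ := syl40_cases (show psi y ∈ syl40 from hy)
  have hy2 : y * y = 1 := Subtype.ext h2
  obtain ⟨i, hi, hia⟩ := inv_cases ha (by rw [e, ← map_mul, hy2, map_one])
  have hq : y.1 * (uA a)⁻¹ ∈ bigQ := by
    rw [bigQ_eq.1]
    exact ⟨y * (uAC a)⁻¹, by
      show psi _ = 1
      rw [map_mul, map_inv, e, mul_inv_cancel], rfl⟩
  obtain ⟨v, hv, b, hb⟩ := bigQ_form hq
  refine ⟨i, hi, v, hv, b, ?_, hia ▸ ha⟩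
  rw [hia, ← hb, inv_mul_cancel_right]
  rfl

theorem square_spec {i : ℕ} (hi : i < invT.length) :
    (invT.getD i (128, false, 0)).1 < 128 ∧ (invT.getD i (128, false, 0)).2.2 < 1024 ∧
      Eqv (uA (invT.getD i (128, false, 0)).1 * uA (invT.getD i (128, false, 0)).1)
        (qv (invT.getD i (128, false, 0)).2.2) := by
  have h := square_ok
  simp only [squareK, List.all_eq_true, Bool.and_eq_true] at h
  have hm : invT.getD i (128, false, 0) ∈ invT := by
    rw [List.getD_eq_getElem _ _ hi]; exact List.getElem_mem hi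
  obtain ⟨⟨h1, h2⟩, h3⟩ := h _ hm
  refine ⟨Nat.le_of_ble_eq_true h1, Nat.le_of_ble_eq_true h2, (invT.getD i (128, false, 0)).2.1, ?_⟩
  have e := eq_of_sameA (app_lt (uL_lt _) (uL_lt _)) (app_lt (qL_lt _) (jL_lt _)) h3
  rw [prodA_append, prodA_append, prodA_jL] at e
  exact e

/-- A solution of the equation of involutions. -/
theorem sol_eq {a c v : ℕ} (ha : a < 128) (hc : c < 1024) (hv : v < 1024) (hsq : Eqv (uA a * uA a) (qv c))
    {b : Bool} (h : jp b * qv v * uA a * (jp b * qv v * uA a) = 1) :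
    (v ^^^ linV (matT.getD a []) 10 v) ^^^ c = 0 := by
  obtain ⟨h1, h2⟩ := mat_spec 7 le_rfl a ha v
  have hvQ := bigQ_le (qv_mem v)
  have hx : Eqv (jp b * qv v * uA a * (jp b * qv v * uA a)) (qv v * uA a * (qv v * uA a)) :=
    Eqv.mul (mul_mem hvQ (uA_cen a)) ⟨b, mul_assoc _ _ _⟩ ⟨b, mul_assoc _ _ _⟩
  have h3 : Eqv (qv v * uA a * (qv v * uA a)) (qv v * qv (linV (matT.getD a []) 10 v) * qv c) := by
    rw [mul_assoc (qv v), mul_assoc (qv v) (qv (linV (matT.getD a []) 10 v))]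
    refine Eqv.mul hvQ (Eqv.refl _) ?_
    rw [← mul_assoc]
    refine (Eqv.mul (mul_mem (bigQ_le (qv_mem _)) (uA_cen a)) h2 (Eqv.refl _)).trans ?_
    rw [mul_assoc]
    exact Eqv.mul (bigQ_le (qv_mem _)) (Eqv.refl _) hsq
  have h4 : Eqv (qv v * qv (linV (matT.getD a []) 10 v) * qv c) (qv ((v ^^^ linV (matT.getD a []) 10 v) ^^^ c)) :=
    (Eqv.mul (bigQ_le (qv_mem _)) (qv_xor _ _).symm (Eqv.refl _)).trans (qv_xor _ _).symm
  refine qv_injective (Nat.xor_lt_two_pow (n := 10) (Nat.xor_lt_two_pow (n := 10) hv h1) hc) (by norm_num) ?_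
  rw [qv_zero]
  exact ((h ▸ hx : Eqv 1 _).trans (h3.trans h4)).symm

/-- A property holds at a vector for both signs. -/
def At (P : MulAut Fi22 → Prop) (a v : ℕ) : Prop := ∀ b, P (jp b * qv v * uA a)

theorem move_conj {P : MulAut Fi22 → Prop} (hconj : ∀ g x, P x → P (g * x * g⁻¹)) {a p v : ℕ}
    {g : MulAut Fi22} (hg : g ∈ cenA) (h : Eqv (g * (qv p * uA a) * g⁻¹) (qv v * uA a)) (hp : At P a p) :
    At P a v := by
  intro b
  obtain ⟨s, hs⟩ := h.symm
  have := hconj g _ (hp (xor b s))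
  rwa [show g * (jp (xor b s) * qv p * uA a) * g⁻¹ = jp b * qv v * uA a by
    rw [mul_assoc (jp b), hs, ← mul_assoc (jp b), ← jp_xor]
    calc g * (jp (xor b s) * qv p * uA a) * g⁻¹ = g * jp (xor b s) * (qv p * uA a) * g⁻¹ := by group
      _ = _ := by rw [← jp_cen hg]; group] at this

theorem move_spec {P : MulAut Fi22 → Prop} (hconj : ∀ g x, P x → P (g * x * g⁻¹)) {a : ℕ} (ha : a < 128)
    {rts : List ℕ} (hr : ∀ r ∈ rts, At P a r) {mask : ℕ} (hm : ∀ v, Nat.testBit mask v = true → At P a v)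
    {e : ℕ × ℕ × ℕ × ℕ} (h : moveK a rts mask e = true) : At P a e.1 := by
  obtain ⟨v, p, w, k⟩ := e
  simp only [moveK, Bool.and_eq_true, Bool.or_eq_true] at h
  obtain ⟨-, h⟩ := h
  rcases h with h | ⟨⟨⟨hp, hw⟩, hmem⟩, h⟩
  · exact hr v (List.contains_iff_mem.1 h)
  have hP := hm p hmem
  by_cases hk : k < 7
  · rw [Nat.blt_eq.mpr hk, cond_true, Bool.and_eq_true] at h
    obtain ⟨h0, h1⟩ := h
    obtain rfl : a = 0 := Nat.eq_of_beq_eq_true h0
    refine move_conj hconj (uE_cen k) ?_ hP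
    show Eqv _ (qv v * uA 0)
    rw [uA_zero, mul_one, mul_one, Nat.eq_of_beq_eq_true h1]
    obtain ⟨s, hs⟩ := (act_spec hk p).2
    exact ⟨s, by rw [hs]; group⟩
  · rw [show Nat.blt k 7 = false from Bool.eq_false_iff.2 fun e => hk (Nat.blt_eq.mp e), cond_false] at h
    refine move_conj hconj (bigQ_le (qv_mem w)) ?_ hP
    obtain ⟨-, s, hs⟩ := mat_spec 7 le_rfl a ha w
    show Eqv _ (qv v * uA a)
    rw [Nat.eq_of_beq_eq_true h]
    obtain ⟨t, ht⟩ := qv_xor w w
    rw [Nat.xor_self, qv_zero] at ht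
    have hinv : Eqv (qv w)⁻¹ (qv w) := ⟨t, inv_eq_of_mul_eq_one_left (by rw [mul_assoc]; exact ht.symm)⟩
    rw [show qv w * (qv p * uA a) * (qv w)⁻¹ = qv w * qv p * (uA a * (qv w)⁻¹) by group]
    have hin : Eqv (uA a * (qv w)⁻¹) (qv (linV (matT.getD a []) 10 w) * uA a) :=
      (Eqv.mul (uA_cen a) (Eqv.refl _) hinv).trans ⟨s, hs⟩
    refine (Eqv.mul (bigQ_le (mul_mem (qv_mem _) (qv_mem _))) (Eqv.comm (qv_mem w) (qv_mem p)) hin).trans ?_
    rw [← mul_assoc]
    refine Eqv.mul (bigQ_le (qv_mem _)) ?_ (Eqv.refl _)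
    exact (Eqv.mul (bigQ_le (qv_mem _)) (qv_xor _ _).symm (Eqv.refl _)).trans (qv_xor _ _).symm

/-- Every involution of the automorphism group satisfies a conjugation invariant property that holds at the
certified cases. -/
theorem invol_induction {P : MulAut Fi22 → Prop} (hconj : ∀ g x, P x → P (g * x * g⁻¹))
    (hcert : ∀ c ∈ certAll, P (jp c.2.2.1 * qv c.2.1 * uA c.1)) {x : MulAut Fi22} (hx : x * x = 1) : P x := by
  obtain ⟨g, hg⟩ := exists_conj_syl hx
  have hy2 : g * x * g⁻¹ * (g * x * g⁻¹) = 1 := by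
    calc g * x * g⁻¹ * (g * x * g⁻¹) = g * (x * x) * g⁻¹ := by group
      _ = 1 := by rw [hx]; group
  suffices h : P (g * x * g⁻¹) by
    have := hconj g⁻¹ _ h
    rwa [show g⁻¹ * (g * x * g⁻¹) * g⁻¹⁻¹ = x by group] at this
  generalize g * x * g⁻¹ = y at hg hy2
  obtain ⟨i, hi, v, hv, b, rfl, ha⟩ := syl_form hg hy2
  obtain ⟨-, hc, hsq⟩ := square_spec hi
  have hsol := sol_eq ha hc hv hsq hy2
  have hR := List.all_eq_true.1 reach_ok i (List.mem_range.2 (invT_len ▸ hi))
  unfold reachK at hR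
  have hcov := cover_ok
  simp only [coverK, List.all_eq_true, List.mem_range] at hcov
  generalize hA : (invT.getD i (128, false, 0)).1 = a at *
  have hroot : ∀ r ∈ rootsT.getD i [], At P a r := by
    intro r hr s
    obtain ⟨c, hcm, hc'⟩ := List.any_eq_true.1 (hcov i hi r hr s (by cases s <;> simp))
    simp only [Bool.and_eq_true, beq_iff_eq] at hc'
    obtain ⟨⟨h1, h2⟩, h3⟩ := hc'
    have := hcert c hcm
    rwa [Nat.eq_of_beq_eq_true h1, hA, Nat.eq_of_beq_eq_true h2, h3] at this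
  have key : ∀ (L : List (ℕ × ℕ × ℕ × ℕ)) (m m' : ℕ), (∀ u, Nat.testBit m u = true → At P a u) →
      runK a (rootsT.getD i []) L m = some m' → ∀ u, Nat.testBit m' u = true → At P a u := by
    intro L
    induction L with
    | nil => intro m m' hm h; rw [runK, Option.some.injEq] at h; exact h ▸ hm
    | cons e t ih =>
      intro m m' hm h
      rw [runK] at h
      cases hmv : moveK a (rootsT.getD i []) m e
      · rw [hmv, cond_false] at h; simp at h
      · rw [hmv, cond_true] at h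
        refine ih _ _ (fun u hu => ?_) h
        rw [show Nat.lor m (2 ^ e.1) = m ||| 2 ^ e.1 from rfl, Nat.testBit_or, Bool.or_eq_true] at hu
        rcases hu with hu | hu
        · exact hm u hu
        · rw [Nat.testBit_two_pow, decide_eq_true_eq] at hu
          exact hu ▸ move_spec hconj ha hroot hm hmv
  dsimp only at hR
  rw [hA] at hR
  split at hR
  · exact absurd hR Bool.false_ne_true
  · rename_i m hm
    have h1 := List.all_eq_true.1 hR v (List.mem_range.2 hv)
    have h2 : Nat.testBit m v = true := by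
      rcases Bool.or_eq_true _ _ |>.mp h1 with h | h
      · exact h
      · rw [show Nat.beq (Nat.xor (Nat.xor v (linV (matT.getD a []) 10 v)) _) 0 = true from Nat.beq_eq.mpr hsol] at h
        exact Bool.noConfusion h
    exact key _ 0 m (fun u hu => by simp at hu) hm v h2 b

theorem cert_spec {c : ℕ × ℕ × Bool × ℕ × ℕ × (List ℕ × ℕ) × ℕ} (hc : c ∈ certAll) : certK c = true := by
  simp only [certAll, List.mem_append] at hc
  rcases hc with ((((h | h) | h) | h) | h) | h
  exacts [List.all_eq_true.1 cert0_ok c h, List.all_eq_true.1 cert1_ok c h, List.all_eq_true.1 cert2_ok c h,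
    List.all_eq_true.1 cert3_ok c h, List.all_eq_true.1 cert4_ok c h, List.all_eq_true.1 cert5_ok c h]

/-- What a certificate says. -/
def Good (x : MulAut Fi22) : Prop :=
  x * x = 1 → (∃ p, autPerm x p = p) ∧
    (x = 1 ∨ (∃ p, x = MulAut.conj (dp p)) ∨
      ∃ g : Fi22, (x * (MulAut.conj g * x * (MulAut.conj g)⁻¹)) ^ 2 ≠ 1 ∧
        (x * (MulAut.conj g * x * (MulAut.conj g)⁻¹)) ^ 3 ≠ 1)

theorem good_conj (φ x : MulAut Fi22) (h : Good x) : Good (φ * x * φ⁻¹) := by
  intro h2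
  have hx : x * x = 1 := by
    calc x * x = φ⁻¹ * (φ * x * φ⁻¹ * (φ * x * φ⁻¹)) * φ := by group
      _ = 1 := by rw [h2]; group
  obtain ⟨⟨p, hp⟩, hc⟩ := h hx
  refine ⟨⟨autPerm φ p, ?_⟩, ?_⟩
  · rw [← Equiv.Perm.mul_apply, ← map_mul, inv_mul_cancel_right, map_mul, Equiv.Perm.mul_apply, hp]
  have hconj : ∀ g : Fi22, φ * MulAut.conj g * φ⁻¹ = MulAut.conj (φ g) := fun g => MulEquiv.ext fun z => by
    show φ (g * φ⁻¹ z * g⁻¹) = φ g * z * (φ g)⁻¹
    rw [map_mul, map_mul, map_inv]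
    congr 2
    exact φ.apply_symm_apply z
  rcases hc with rfl | ⟨q, rfl⟩ | ⟨g, hg⟩
  · exact Or.inl (by group)
  · exact Or.inr (Or.inl ⟨autPerm φ q, by rw [hconj, autPerm_spec]⟩)
  · refine Or.inr (Or.inr ⟨φ g, ?_⟩)
    rw [← hconj, show φ * x * φ⁻¹ * (φ * MulAut.conj g * φ⁻¹ * (φ * x * φ⁻¹) * (φ * MulAut.conj g * φ⁻¹)⁻¹) =
      φ * (x * (MulAut.conj g * x * (MulAut.conj g)⁻¹)) * φ⁻¹ by group, conj_pow, conj_pow]
    exact ⟨fun e => hg.1 (by simpa using e), fun e => hg.2 (by simpa using e)⟩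

theorem good_cert (c : ℕ × ℕ × Bool × ℕ × ℕ × (List ℕ × ℕ) × ℕ) (hc : c ∈ certAll) :
    Good (jp c.2.2.1 * qv c.2.1 * uA c.1) := by
  have hK := cert_spec hc
  obtain ⟨a, r, b, k, fx, ⟨hw, hl⟩, p⟩ := c
  simp only [certK, Bool.and_eq_true] at hK
  obtain ⟨hfx, hK⟩ := hK
  have hxlt : ∀ w ∈ xL a r b, ∀ x ∈ w.1, x < 9 := app_lt (app_lt (uL_lt a) (qL_lt r)) (jL_lt b)
  have hx : prodA (xL a r b) = jp b * qv r * uA a := by
    rw [xL, prodA_append, prodA_append, prodA_jL, ← mul_assoc]; rfl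
  have himg := fun u : Fin table.N => prodA_img hxlt u
  rw [hx] at himg
  generalize hX : jp b * qv r * uA a = x at himg hx ⊢
  intro h2
  have hf : fx < table.N := Nat.le_of_ble_eq_true hfx
  rcases hb : Nat.beq k 0
  swap
  · exfalso
    rw [hb, cond_true, Bool.not_eq_true'] at hK
    have e : ((autPerm (x * x) ⟨fx, hf⟩ : Fin table.N) : ℕ) = fx := by rw [h2, map_one, Equiv.Perm.one_apply]
    rw [map_mul, Equiv.Perm.mul_apply, himg, himg] at e
    rw [Nat.beq_eq.mpr e] at hK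
    exact Bool.noConfusion hK
  rw [hb, cond_false, Bool.and_eq_true] at hK
  obtain ⟨hfix, hK⟩ := hK
  refine ⟨⟨⟨fx, hf⟩, Fin.ext (by rw [himg]; exact Nat.eq_of_beq_eq_true hfix)⟩, ?_⟩
  rcases hb1 : Nat.beq k 1
  swap
  · rw [hb1, cond_true] at hK
    simp only [Bool.and_eq_true, List.all_eq_true, Nat.blt_eq, Bool.not_eq_true'] at hK
    obtain ⟨⟨hwlt, hp⟩, ht2, ht3⟩ := hK
    refine Or.inr (Or.inr ⟨el hw, ?_⟩)
    have hrev : ∀ y ∈ hw.reverse, y < 9 := fun y hy => hwlt y (List.mem_reverse.1 hy)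
    have hlt : ∀ w ∈ twistL (xL a r b) hw, ∀ y ∈ w.1, y < 9 := by
      intro w hw'
      simp only [twistL, List.mem_cons, List.mem_append] at hw'
      rcases hw' with rfl | h | rfl | h
      exacts [hrev, hxlt w h, hwlt, hxlt w h]
    have hy : prodA (twistL (xL a r b) hw) = x * (MulAut.conj (el hw) * x * (MulAut.conj (el hw))⁻¹) := by
      rw [twistL, prodA, prodA_append, prodA, hx, autEl_false, autEl_false, el_reverse hwlt, map_inv]
      group
    have hpow : ∀ n (u : Fin table.N), ((autPerm ((prodA (twistL (xL a r b) hw)) ^ n) u : Fin table.N) : ℕ) =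
        (imgP (twistL (xL a r b) hw))^[n] u := by
      intro n
      induction n with
      | zero => intro u; rw [pow_zero, map_one]; rfl
      | succ n ih =>
        intro u
        rw [pow_succ, map_mul, Equiv.Perm.mul_apply, ih, prodA_img hlt]
        exact (Function.iterate_succ_apply _ _ _).symm
    have hne : ∀ n, Nat.beq ((imgP (twistL (xL a r b) hw))^[n] p) p = false →
        (x * (MulAut.conj (el hw) * x * (MulAut.conj (el hw))⁻¹)) ^ n ≠ 1 := by
      intro n hn e
      have h1 := hpow n ⟨p, hp⟩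
      rw [hy, e, map_one, Equiv.Perm.one_apply] at h1
      rw [Nat.beq_eq.mpr h1.symm] at hn
      exact Bool.noConfusion hn
    exact ⟨hne 2 ht2, hne 3 ht3⟩
  rw [hb1, cond_false] at hK
  rcases hb2 : Nat.beq k 2
  · left
    rw [hb2, cond_false] at hK
    have e := eq_of_sameA hxlt (by simp) hK
    rw [hx] at e
    exact e
  · right; left
    rw [hb2, cond_true] at hK
    simp only [Bool.and_eq_true, Nat.blt_eq] at hK
    obtain ⟨⟨hp, hh⟩, he⟩ := hK
    have e := eq_of_sameA hxlt (by intro w hw'; rw [List.mem_singleton] at hw'; exact hw' ▸ fullWord_lt hh) he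
    rw [hx, prodA_single, autEl_false] at e
    exact ⟨⟨p, hp⟩, by rw [e, dp_of_half (p := ⟨p, hp⟩) hh]⟩

theorem good_all {x : MulAut Fi22} (hx : x * x = 1) : Good x := invol_induction good_conj good_cert hx

/-- Every involutory automorphism fixes a member. -/
theorem fixes_member {G : Type*} [Group G] {D : Set G} (h : ModelIso G D) (φ : MulAut G) (hφ : orderOf φ = 2) :
    ∃ d ∈ D, φ d = d := by
  obtain ⟨e, he⟩ := h
  have h2 : φ * φ = 1 := by rw [← pow_two, ← hφ, pow_orderOf_eq_one]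
  have hb : MulAut.congr e φ * MulAut.congr e φ = 1 := by rw [← map_mul, h2, map_one]
  obtain ⟨⟨p, hp⟩, -⟩ := good_all hb hb
  refine ⟨e.symm (dp p), (mem_iff_of_image e he).2 (by rw [classTr_eq_range]; exact ⟨p, (e.apply_symm_apply _).symm⟩),
    e.injective ?_⟩
  have h1 := autPerm_spec (MulAut.congr e φ) p
  rw [hp] at h1
  rw [e.apply_symm_apply]
  exact h1

theorem unique_fi22 (D' : Set Fi22) (hD' : Cfsg.IsThreeTranspositionClass D') : D' = classTr := by
  obtain ⟨⟨hord, hmul⟩, ⟨x, hx, hD⟩, -⟩ := hD'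
  have hx2 : x * x = 1 := by rw [← pow_two, ← hord x hx, pow_orderOf_eq_one]
  have hX : MulAut.conj x * MulAut.conj x = 1 := by rw [← map_mul, hx2, map_one]
  obtain ⟨-, h1 | ⟨p, hp⟩ | ⟨g, hg2, hg3⟩⟩ := good_all hX hX
  · have e : x = 1 := PairTwo.conj_injective (h1.trans (map_one MulAut.conj).symm)
    rw [e] at hx
    exact absurd (hord 1 hx) (by simp)
  · have e : x = dp p := PairTwo.conj_injective hp
    have hm : x ∈ classTr := e ▸ classTr_eq_range ▸ Set.mem_range_self p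
    rw [hD]
    exact (IsConj.conjugatesOf_eq hm).symm
  · exfalso
    have hgx : g * x * g⁻¹ ∈ D' := by
      rw [hD]; exact isConj_iff.2 ⟨g, rfl⟩
    rcases hmul x hx _ hgx with h | h
    · exact hg2 (by rw [← map_inv, ← map_mul, ← map_mul, ← map_mul, ← map_pow, h, map_one])
    · exact hg3 (by rw [← map_inv, ← map_mul, ← map_mul, ← map_mul, ← map_pow, h, map_one])

/-- The class is the only class of 3-transpositions. -/
theorem class_unique {G : Type*} [Group G] {D : Set G} (h : ModelIso G D) (D' : Set G)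
    (hD' : Cfsg.IsThreeTranspositionClass D') : D' = D := by
  obtain ⟨e, he⟩ := h
  obtain ⟨⟨hord, hmul⟩, ⟨x, hx, hD⟩, hgen⟩ := hD'
  have key : e '' D' = classTr := by
    refine unique_fi22 _ ⟨⟨?_, ?_⟩, ⟨e x, Set.mem_image_of_mem e hx, ?_⟩, ?_⟩
    · rintro _ ⟨d, hd, rfl⟩
      rw [MulEquiv.orderOf_eq, hord d hd]
    · rintro _ ⟨a, ha, rfl⟩ _ ⟨b, hb, rfl⟩
      rw [← map_mul, ← map_pow, ← map_pow]
      exact (hmul a ha b hb).imp (fun h => by rw [h, map_one]) fun h => by rw [h, map_one]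
    · ext y
      obtain ⟨z, rfl⟩ := e.surjective y
      rw [e.injective.mem_set_image, hD]
      show IsConj x z ↔ IsConj (e x) (e z)
      constructor
      · intro hc
        exact e.toMonoidHom.map_isConj hc
      · intro hc
        have := e.symm.toMonoidHom.map_isConj hc
        simpa using this
    · rw [show e '' D' = e.toMonoidHom '' D' from rfl, ← MonoidHom.map_closure, hgen,
        Subgroup.map_top_of_surjective _ e.surjective]
  exact e.injective.image_injective (key.trans he.symm)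

end CfsgLib.Sporadic.FiTransfer.Involutions
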