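import Cfsg.Agent.Lib.Sporadic.FiTransfer.Involutions.Sylow
import Cfsg.Agent.Lib.Sporadic.FiTransfer.Involutions.CheckCert0
import Cfsg.Agent.Lib.Sporadic.FiTransfer.Involutions.CheckCert1
import Cfsg.Agent.Lib.Sporadic.FiTransfer.Involutions.CheckCert2
import Cfsg.Agent.Lib.Sporadic.FiTransfer.Involutions.CheckCert3
import Cfsg.Agent.Lib.Sporadic.FiTransfer.Involutions.CheckCert4
import Cfsg.Agent.Lib.Sporadic.FiTransfer.Involutions.CheckCert5

/-!
# Reduction of the involutions of the automorphism group of Fi22 to certified cases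
-/

set_option autoImplicit false
set_option maxRecDepth 100000

open Cfsg.Spor
open CfsgLib.Sporadic.CosetCert CfsgLib.Sporadic.CosetCert.FiP CfsgLib.Sporadic.CosetCert.FiP.OutFi22
open CfsgLib.Sporadic.CosetCert.FiData (table)
open CfsgLib.Sporadic.FiTransfer.PairTwo

namespace CfsgLib.Sporadic.FiTransfer.Involutions

attribute [local irreducible] PTab.img symAt

theorem qW_lt (k : ℕ) : ∀ x ∈ (qW.getD k noW).1, x < 9 := by
  rcases Nat.lt_or_ge k 10 with h | h
  · exact qA_lt ⟨k, h⟩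
  · rw [List.getD_eq_default _ _ (show qW.length ≤ k from h)]; simp [noW]

theorem flA_lt (f : ℕ → List (List ℕ × Bool)) (hf : ∀ k, ∀ w ∈ f k, ∀ x ∈ w.1, x < 9) (n v : ℕ) :
    ∀ w ∈ flA f n v, ∀ x ∈ w.1, x < 9 := by
  intro w hw
  obtain ⟨k, -, hw⟩ := List.mem_flatMap.1 hw
  split at hw
  · exact hf k w hw
  · simp at hw

theorem qB_lt (k : ℕ) : ∀ w ∈ qB k, ∀ x ∈ w.1, x < 9 := by
  intro w hw
  rw [qB, List.mem_singleton] at hw
  exact hw ▸ qW_lt k

theorem uL_lt (a : ℕ) : ∀ w ∈ uL a, ∀ x ∈ w.1, x < 9 := flA_lt _ uW_lt 7 a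

theorem qL_lt (v : ℕ) : ∀ w ∈ qL v, ∀ x ∈ w.1, x < 9 := flA_lt _ qB_lt 10 v

theorem jL_lt (b : Bool) : ∀ w ∈ jL b, ∀ x ∈ w.1, x < 9 := by
  cases b
  · simp [jL]
  · intro w hw; rw [jL, cond_true, List.mem_singleton] at hw; exact hw ▸ jW_lt

theorem app_lt {A B : List (List ℕ × Bool)} (hA : ∀ w ∈ A, ∀ x ∈ w.1, x < 9) (hB : ∀ w ∈ B, ∀ x ∈ w.1, x < 9) :
    ∀ w ∈ A ++ B, ∀ x ∈ w.1, x < 9 := fun w hw => (List.mem_append.1 hw).elim (hA w) (hB w)

theorem prodA_jL (b : Bool) : prodA (jL b) = jp b := by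
  cases b
  · rfl
  · show prodA [jW] = jA
    rw [prodA_single, ← jA_eq]

/-- The element of a vector, the first coordinates only. -/
noncomputable def qn (n v : ℕ) : MulAut Fi22 := prodA (flA qB n v)

/-- The element of a vector. -/
noncomputable def qv (v : ℕ) : MulAut Fi22 := prodA (qL v)

/-- One coordinate of a vector. -/
noncomputable def qt (n v : ℕ) : MulAut Fi22 := if v.testBit n then prodA (qB n) else 1

theorem qn_succ (n v : ℕ) : qn (n + 1) v = qt n v * qn n v := by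
  rw [qn, flA_succ, prodA_append, qt]
  split <;> rfl

theorem prodA_qB {k : ℕ} (hk : k < 10) : prodA (qB k) = qA ⟨k, hk⟩ := prodA_single _

theorem qn_mem : ∀ n ≤ 10, ∀ v, qn n v ∈ bigQ := by
  intro n
  induction n with
  | zero => intro _ v; exact one_mem _
  | succ n ih =>
    intro hn v
    rw [qn_succ, qt]
    refine mul_mem ?_ (ih (by omega) v)
    split
    · rw [prodA_qB (by omega : n < 10)]; exact qA_mem_bigQ _
    · exact one_mem _

theorem qv_mem (v : ℕ) : qv v ∈ bigQ := qn_mem 10 le_rfl v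

/-- Equal up to the central involution. -/
def Eqv (x y : MulAut Fi22) : Prop := ∃ b, x = jp b * y

theorem jp_cen {z : MulAut Fi22} (hz : z ∈ cenA) (b : Bool) : jp b * z = z * jp b := by
  cases b
  · simp [jp]
  · exact (Subgroup.mem_centralizer_singleton_iff.1 hz).symm

theorem Eqv.refl (x : MulAut Fi22) : Eqv x x := ⟨false, (one_mul x).symm⟩

theorem Eqv.symm {x y : MulAut Fi22} (h : Eqv x y) : Eqv y x := by
  obtain ⟨b, rfl⟩ := h
  exact ⟨b, by rw [← mul_assoc, ← jp_xor, Bool.xor_self]; exact (one_mul y).symm⟩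

theorem Eqv.trans {x y z : MulAut Fi22} (h : Eqv x y) (h' : Eqv y z) : Eqv x z := by
  obtain ⟨b, rfl⟩ := h
  obtain ⟨c, rfl⟩ := h'
  exact ⟨xor b c, by rw [jp_xor, mul_assoc]⟩

theorem Eqv.mul {x y x' y' : MulAut Fi22} (hy : y ∈ cenA) (h : Eqv x y) (h' : Eqv x' y') :
    Eqv (x * x') (y * y') := by
  obtain ⟨b, rfl⟩ := h
  obtain ⟨c, rfl⟩ := h'
  refine ⟨xor b c, ?_⟩
  rw [jp_xor]
  calc jp b * y * (jp c * y') = jp b * (y * jp c) * y' := by group
    _ = _ := by rw [← jp_cen hy]; group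

theorem Eqv.comm {x y : MulAut Fi22} (hx : x ∈ bigQ) (hy : y ∈ bigQ) : Eqv (x * y) (y * x) := comm_mod_j hx hy

theorem qn_xor : ∀ n ≤ 10, ∀ v w, Eqv (qn n (v ^^^ w)) (qn n v * qn n w) := by
  intro n
  induction n with
  | zero => intro _ v w; exact ⟨false, rfl⟩
  | succ n ih =>
    intro hn v w
    have hb : prodA (qB n) = qA ⟨n, by omega⟩ := prodA_qB _
    have hm : ∀ v, qt n v ∈ bigQ := fun v => by
      rw [qt]; split
      · rw [hb]; exact qA_mem_bigQ _
      · exact one_mem _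
    have hx : qt n (v ^^^ w) = qt n v * qt n w := by
      simp only [qt, Nat.testBit_xor, hb]
      cases v.testBit n <;> cases w.testBit n <;> simp [qA_sq]
    rw [qn_succ, qn_succ, qn_succ, hx]
    refine (Eqv.mul (bigQ_le (mul_mem (hm v) (hm w))) (Eqv.refl _) (ih (by omega) v w)).trans ?_
    rw [mul_assoc (qt n v), mul_assoc (qt n v) (qn n v)]
    refine Eqv.mul (bigQ_le (hm v)) (Eqv.refl _) ?_
    rw [← mul_assoc, ← mul_assoc (qn n v)]
    exact Eqv.mul (bigQ_le (mul_mem (qn_mem n (by omega) v) (hm w)))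
      (Eqv.comm (hm w) (qn_mem n (by omega) v)) (Eqv.refl _)

theorem qv_xor (v w : ℕ) : Eqv (qv (v ^^^ w)) (qv v * qv w) := qn_xor 10 le_rfl v w

theorem qn_zero : ∀ n, qn n 0 = 1 := by
  intro n
  induction n with
  | zero => rfl
  | succ n ih => rw [qn_succ, ih, qt, Nat.zero_testBit, if_neg Bool.false_ne_true, one_mul]

theorem qv_zero : qv 0 = 1 := qn_zero 10

theorem qn_trunc {k : ℕ} (hk : k ≤ 10) {v : ℕ} (hv : v < 2 ^ k) : qv v = qn k v := by
  rw [qv, qL, flA_trunc _ hk hv, qn]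

theorem qv_unit {k : ℕ} (hk : k < 10) : qv (2 ^ k) = qA ⟨k, hk⟩ := by
  have h := qn_trunc (show k + 1 ≤ 10 from hk) (show 2 ^ k < 2 ^ (k + 1) by rw [pow_succ]; have := Nat.two_pow_pos k; omega)
  rw [h, qn, show (2 : ℕ) ^ k = 0 + 2 ^ k by rw [zero_add], flA_top _ (Nat.two_pow_pos k), prodA_append,
    prodA_qB hk, show prodA (flA qB k 0) = qn k 0 from rfl, qn_zero, mul_one]

theorem bigQ_form {x : MulAut Fi22} (hx : x ∈ bigQ) : ∃ v < 1024, Eqv x (qv v) := by
  induction hx using Subgroup.closure_induction with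
  | mem y hy =>
    rcases hy with rfl | ⟨k, rfl⟩
    · exact ⟨0, by norm_num, true, by rw [qv_zero]; exact (mul_one _).symm⟩
    · exact ⟨2 ^ (k : ℕ), Nat.pow_lt_pow_right (by norm_num) k.2, by rw [qv_unit k.2]; exact Eqv.refl _⟩
  | one => exact ⟨0, by norm_num, by rw [qv_zero]; exact Eqv.refl _⟩
  | mul a b _ _ iha ihb =>
    obtain ⟨v, hv, h⟩ := iha
    obtain ⟨w, hw, h'⟩ := ihb
    exact ⟨v ^^^ w, Nat.xor_lt_two_pow (n := 10) hv hw,
      (Eqv.mul (bigQ_le (qv_mem v)) h h').trans (qv_xor v w).symm⟩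
  | inv a _ iha =>
    obtain ⟨v, hv, b, rfl⟩ := iha
    refine ⟨v, hv, ?_⟩
    obtain ⟨s, hs⟩ := qv_xor v v
    rw [Nat.xor_self, qv_zero] at hs
    have h2 : (qv v)⁻¹ = jp s * qv v := inv_eq_of_mul_eq_one_left (by rw [mul_assoc]; exact hs.symm)
    refine ⟨xor s b, ?_⟩
    have hb : jp b * jp b = 1 := by rw [← jp_xor, Bool.xor_self]; rfl
    rw [mul_inv_rev, h2, inv_eq_of_mul_eq_one_right hb, jp_xor, mul_assoc, mul_assoc (jp s),
      jp_cen (bigQ_le (qv_mem v))]

theorem qv_injective {v w : ℕ} (hv : v < 1024) (hw : w < 1024) (h : Eqv (qv v) (qv w)) : v = w := by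
  have := finite_aut
  have hb : Function.Bijective fun p : Bool × Fin 1024 => (⟨jp p.1 * qv p.2, mul_mem (jp_mem _) (qv_mem _)⟩ : bigQ) := by
    refine (Nat.bijective_iff_surjective_and_card _).2 ⟨fun x => ?_, ?_⟩
    · obtain ⟨v, hv, b, e⟩ := bigQ_form x.2
      exact ⟨(b, ⟨v, hv⟩), Subtype.ext e.symm⟩
    · rw [Nat.card_prod, Nat.card_eq_fintype_card, Fintype.card_bool, Nat.card_fin, bigQ_eq.2.1]
  obtain ⟨b, hb'⟩ := h
  have := hb.1 (a₁ := (false, ⟨v, hv⟩)) (a₂ := (b, ⟨w, hw⟩)) (Subtype.ext (by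
    show jp false * qv v = jp b * qv w
    rw [← hb', show jp false = 1 from rfl, one_mul]))
  exact congrArg Fin.val (congrArg Prod.snd this)

theorem lin_spec {row : List ℕ} {g : MulAut Fi22} (hg : g ∈ cenA)
    (h : ∀ i < 10, row.getD i 0 < 1024 ∧ Eqv (g * qv (2 ^ i)) (qv (row.getD i 0) * g)) (v : ℕ) :
    ∀ n ≤ 10, linV row n v < 1024 ∧ Eqv (g * qn n v) (qv (linV row n v) * g) := by
  intro n
  induction n with
  | zero =>
    intro _
    refine ⟨Nat.two_pow_pos 10, ?_⟩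
    show Eqv (g * 1) (qv 0 * g)
    rw [qv_zero, one_mul, mul_one]
    exact Eqv.refl _
  | succ n ih =>
    intro hn
    obtain ⟨h1, h2⟩ := ih (by omega)
    obtain ⟨h3, h4⟩ := h n (by omega)
    rw [qv_unit (show n < 10 by omega)] at h4
    have hs : linV row (n + 1) v = (bif v.testBit n then row.getD n 0 else 0) ^^^ linV row n v := rfl
    rw [hs, qn_succ, qt]
    cases v.testBit n
    · simp only [cond_false, Nat.zero_xor, Bool.false_eq_true, if_false, one_mul]
      exact ⟨h1, h2⟩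
    · simp only [cond_true, if_true]
      refine ⟨Nat.xor_lt_two_pow (n := 10) h3 h1, ?_⟩
      rw [prodA_qB (show n < 10 by omega), ← mul_assoc]
      refine (Eqv.mul (mul_mem (bigQ_le (qv_mem _)) hg) h4 (Eqv.refl _)).trans ?_
      rw [mul_assoc (qv (row.getD n 0)) g]
      refine (Eqv.mul (bigQ_le (qv_mem _)) (Eqv.refl _) h2).trans ?_
      rw [← mul_assoc]
      exact Eqv.mul (bigQ_le (qv_mem _))
        (qv_xor _ _).symm (Eqv.refl _)

theorem linV_unit (row : List ℕ) {i : ℕ} (hi : i < 10) : linV row 10 (2 ^ i) = row.getD i 0 := by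
  have key : ∀ n, linV row n (2 ^ i) = if i < n then row.getD i 0 else 0 := by
    intro n
    induction n with
    | zero => rfl
    | succ n ih =>
      show Nat.xor (bif (2 ^ i).testBit n then row.getD n 0 else 0) (linV row n (2 ^ i)) = _
      rw [ih]
      rcases eq_or_ne i n with rfl | hne
      · simp [Nat.testBit_two_pow_self]
      · rw [Nat.testBit_two_pow_of_ne hne, cond_false]
        show 0 ^^^ _ = _
        rw [Nat.zero_xor]
        congr 1
        exact propext ⟨fun h => by omega, fun h => by omega⟩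
  rw [key, if_pos hi]

theorem lin_qv {row : List ℕ} {g : MulAut Fi22} (hg : g ∈ cenA)
    (h : ∀ i < 10, row.getD i 0 < 1024 ∧ Eqv (g * qv (2 ^ i)) (qv (row.getD i 0) * g)) (v : ℕ) :
    linV row 10 v < 1024 ∧ Eqv (g * qv v) (qv (linV row 10 v) * g) := lin_spec hg h v 10 le_rfl

theorem act_getD {k i : ℕ} (hk : k < 7) (hi : i < 10) :
    ((actT.getD k []).map Prod.snd).getD i 0 = ((actT.getD k []).getD i (false, 1024)).2 := by
  have hlen : ∀ k < 7, (actT.getD k []).length = 10 := by decide +kernel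
  have h : i < (actT.getD k []).length := by rw [hlen k hk]; exact hi
  rw [List.getD_eq_getElem _ _ (by rwa [List.length_map]), List.getElem_map, List.getD_eq_getElem _ _ h]

theorem act_spec {k : ℕ} (hk : k < 7) (v : ℕ) :
    linV ((actT.getD k []).map Prod.snd) 10 v < 1024 ∧
      Eqv (uE k * qv v) (qv (linV ((actT.getD k []).map Prod.snd) 10 v) * uE k) := by
  refine lin_qv (uE_cen k) (fun i hi => ?_) v
  have h := act_ok
  simp only [actK, List.all_eq_true, List.mem_range, Bool.and_eq_true] at h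
  obtain ⟨h1, h2⟩ := h k hk i hi
  rw [act_getD hk hi]
  refine ⟨Nat.le_of_ble_eq_true h1, ((actT.getD k []).getD i (false, 1024)).1, ?_⟩
  have e := eq_of_sameA (app_lt (qB_lt i) (uW_lt k)) (app_lt (app_lt (uW_lt k) (qL_lt _)) (jL_lt _)) h2
  rw [prodA_append, prodA_append, prodA_append, prodA_jL, prodA_qB hi] at e
  rw [qv_unit hi]
  exact e

theorem mat_spec : ∀ k ≤ 7, ∀ a < 2 ^ k, ∀ v,
    linV (matT.getD a []) 10 v < 1024 ∧ Eqv (uA a * qv v) (qv (linV (matT.getD a []) 10 v) * uA a) := by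
  have h := mat_ok
  simp only [matK, Bool.and_eq_true, List.all_eq_true, List.mem_range] at h
  intro k
  induction k with
  | zero =>
    intro _ a ha v
    obtain rfl : a = 0 := by omega
    refine lin_qv (uA_cen 0) (fun i hi => ?_) v
    rw [Nat.eq_of_beq_eq_true (h.1 i hi), uA_zero, one_mul, mul_one]
    exact ⟨Nat.pow_lt_pow_right (by norm_num) hi, Eqv.refl _⟩
  | succ k ih =>
    intro hk a ha v
    rcases lt_or_ge a (2 ^ k) with hlt | hge
    · exact ih (by omega) a hlt v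
    · obtain ⟨w, rfl⟩ : ∃ w, a = w + 2 ^ k := ⟨a - 2 ^ k, by omega⟩
      have hw : w < 2 ^ k := by rw [pow_succ] at ha; omega
      refine lin_qv (uA_cen _) (fun i hi => ?_) v
      rw [Nat.eq_of_beq_eq_true (h.2 k (by omega) w hw i hi)]
      obtain ⟨h1, h2⟩ := act_spec (show k < 7 by omega) ((matT.getD w []).getD i 0)
      refine ⟨h1, ?_⟩
      have hi1 : Eqv (uA w * qv (2 ^ i)) (qv ((matT.getD w []).getD i 0) * uA w) := by
        have := (ih (by omega) w hw (2 ^ i)).2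
        rwa [linV_unit _ hi] at this
      rw [uA_top (by omega) hw, mul_assoc]
      refine (Eqv.mul (uE_cen k) (Eqv.refl _) hi1).trans ?_
      rw [← mul_assoc, ← mul_assoc]
      exact Eqv.mul (mul_mem (bigQ_le (qv_mem _)) (uE_cen k)) h2 (Eqv.refl _)

end CfsgLib.Sporadic.FiTransfer.Involutions
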