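import Cfsg.Agent.Lib.Sporadic.FiTransfer.Involutions.Defs

/-!
# Kernel checks for the involutions: structure
-/

set_option autoImplicit false
set_option maxRecDepth 100000
set_option maxHeartbeats 0

namespace CfsgLib.Sporadic.FiTransfer.Involutions

theorem pm_ok : pmK = true := by decide +kernel

theorem pmDist_ok : pmDistK = true := by decide +kernel

theorem inv_ok : invK = true := by decide +kernel

theorem act_ok : actK = true := by decide +kernel

theorem mat_ok : matK = true := by decide +kernel

theorem square_ok : squareK = true := by decide +kernel

theorem reach_ok : (List.range 44).all reachK = true := by decide +kernel

theorem cover_ok : coverK = true := by decide +kernel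

theorem invT_len : invT.length = 44 := by decide +kernel

end CfsgLib.Sporadic.FiTransfer.Involutions
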