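import Cfsg.Agent.Lib.Sporadic.FiTransfer.Involutions.Data
import Cfsg.Agent.Lib.Sporadic.FiTransfer.PairTwo.Checks

/-!
# The checks on the data for the involutions
-/

set_option autoImplicit false

namespace CfsgLib.Sporadic.FiTransfer.Involutions

open CosetCert CosetCert.FiP.OutFi22 PairTwo
open CosetCert.FiData (table)

/-- The word of one of the seven. -/
def uW (k : ℕ) : List (List ℕ × Bool) := (uIx.getD k []).map fun g => cGens.getD g noW

/-- The concatenation at the set bits. -/
def flA (f : ℕ → List (List ℕ × Bool)) (n v : ℕ) : List (List ℕ × Bool) :=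
  (List.range n).flatMap fun k => if v.testBit k then f k else []

/-- One of the ten. -/
def qB (k : ℕ) : List (List ℕ × Bool) := [qW.getD k noW]

/-- The word of a vector. -/
def qL (v : ℕ) : List (List ℕ × Bool) := flA qB 10 v

/-- The word of one of the 128. -/
def uL (a : ℕ) : List (List ℕ × Bool) := flA uW 7 a

/-- A power of the central involution. -/
def jL (b : Bool) : List (List ℕ × Bool) := bif b then [jW] else []

/-- The word of an element. -/
def xL (a r : ℕ) (b : Bool) : List (List ℕ × Bool) := uL a ++ qL r ++ jL b

/-- A linear map on vectors given by the images of the unit vectors. -/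
noncomputable def linV (row : List ℕ) (n v : ℕ) : ℕ :=
  Nat.rec 0 (fun k ih => Nat.xor (bif Nat.testBit v k then row.getD k 0 else 0) ih) n

/-- The image of one of the forty under one of the seven. -/
noncomputable def u40K (k i : ℕ) : ℕ := (uIx.getD k []).foldl (fun u g => (sig.getD g []).getD u 40) i

/-- The permutations are the composites and are closed under the seven. -/
noncomputable def pmK : Bool :=
  (List.range 40).all (fun i => Nat.beq ((pm.getD 0 []).getD i 40) i) &&
  (List.range 7).all (fun k => (List.range (2 ^ k)).all fun a => (List.range 40).all fun i =>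
    Nat.beq ((pm.getD (a + 2 ^ k) []).getD i 40) (u40K k ((pm.getD a []).getD i 40))) &&
  (List.range 7).all (fun k => (uIx.getD k []).all fun g => Nat.blt g 11) &&
  (List.range 128).all fun a => (List.range 7).all fun k =>
    let b := (stepT.getD a []).getD k 128
    Nat.blt b 128 && (List.range 40).all fun i =>
      Nat.beq ((pm.getD b []).getD i 40) (u40K k ((pm.getD a []).getD i 40))

/-- The permutations differ. -/
noncomputable def pmDistK : Bool :=
  (List.range 128).all fun a => (List.range a).all fun b =>
    (List.range 40).any fun i => !(Nat.beq ((pm.getD a []).getD i 40) ((pm.getD b []).getD i 40))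

/-- The permutations outside the list are not involutions. -/
noncomputable def invK : Bool :=
  (List.range 128).all fun a => invT.any (fun e => Nat.beq e.1 a) ||
    (List.range 40).any fun i => !(Nat.beq ((pm.getD a []).getD ((pm.getD a []).getD i 40) 40) i)

/-- The seven act on the kernel as listed. -/
noncomputable def actK : Bool :=
  (List.range 7).all fun k => (List.range 10).all fun i =>
    let e := (actT.getD k []).getD i (false, 1024)
    Nat.blt e.2 1024 && sameA (qB i ++ uW k) (uW k ++ qL e.2 ++ jL e.1)

/-- The maps of the 128 are the composites. -/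
noncomputable def matK : Bool :=
  (List.range 10).all (fun i => Nat.beq ((matT.getD 0 []).getD i 0) (2 ^ i)) &&
  (List.range 7).all fun k => (List.range (2 ^ k)).all fun a => (List.range 10).all fun i =>
    Nat.beq ((matT.getD (a + 2 ^ k) []).getD i 0)
      (linV ((actT.getD k []).map Prod.snd) 10 ((matT.getD a []).getD i 0))

/-- The squares of the listed elements lie in the kernel as listed. -/
noncomputable def squareK : Bool :=
  invT.all fun e => Nat.blt e.1 128 && Nat.blt e.2.2 1024 &&
    sameA (uL e.1 ++ uL e.1) (qL e.2.2 ++ jL e.2.1)

/-- One step of the reduction. -/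
noncomputable def moveK (a : ℕ) (rts : List ℕ) (mask : ℕ) (e : ℕ × ℕ × ℕ × ℕ) : Bool :=
  Nat.blt e.1 1024 &&
    (rts.contains e.1 || (Nat.blt e.2.1 1024 && Nat.blt e.2.2.1 1024 && Nat.testBit mask e.2.1 &&
      bif Nat.blt e.2.2.2 7 then Nat.beq a 0 && Nat.beq e.1 (linV ((actT.getD e.2.2.2 []).map Prod.snd) 10 e.2.1)
      else Nat.beq e.1 (Nat.xor (Nat.xor e.2.1 e.2.2.1) (linV (matT.getD a []) 10 e.2.2.1))))

/-- The reduction, collecting the vectors reached. -/
noncomputable def runK (a : ℕ) (rts : List ℕ) : List (ℕ × ℕ × ℕ × ℕ) → ℕ → Option ℕ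
  | [], mask => some mask
  | e :: t, mask => bif moveK a rts mask e then runK a rts t (Nat.lor mask (2 ^ e.1)) else none

/-- All solutions for one element are reached. -/
noncomputable def reachK (i : ℕ) : Bool :=
  let e := invT.getD i (128, false, 0)
  match runK e.1 (rootsT.getD i []) (forest.getD i []) 0 with
  | none => false
  | some m => (List.range 1024).all fun v =>
      Nat.testBit m v || !(Nat.beq (Nat.xor (Nat.xor v (linV (matT.getD e.1 []) 10 v)) e.2.2) 0)

/-- All certificates. -/
def certAll : List (ℕ × ℕ × Bool × ℕ × ℕ × (List ℕ × ℕ) × ℕ) :=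
  cert0 ++ cert1 ++ cert2 ++ cert3 ++ cert4 ++ cert5

/-- Every remaining candidate has a certificate. -/
noncomputable def coverK : Bool :=
  (List.range invT.length).all fun i => (rootsT.getD i []).all fun r => [false, true].all fun b =>
    certAll.any fun c => Nat.beq c.1 (invT.getD i (128, false, 0)).1 && Nat.beq c.2.1 r && c.2.2.1 == b

/-- The word of the product with a conjugate. -/
def twistL (x : List (List ℕ × Bool)) (h : List ℕ) : List (List ℕ × Bool) :=
  (h.reverse, false) :: (x ++ ((h, false) :: x))

/-- One certificate: either the square moves a point, or a point is fixed and the element is trivial, or of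
the class, or has a product with a conjugate of order more than three. -/
noncomputable def certK (c : ℕ × ℕ × Bool × ℕ × ℕ × (List ℕ × ℕ) × ℕ) : Bool :=
  let x := xL c.1 c.2.1 c.2.2.1
  let k := c.2.2.2.1
  let fx := c.2.2.2.2.1
  let h := c.2.2.2.2.2.1
  let p := c.2.2.2.2.2.2
  Nat.blt fx 3510 &&
    bif Nat.beq k 0 then !(Nat.beq (imgP x (imgP x fx)) fx) else
      Nat.beq (imgP x fx) fx &&
        bif Nat.beq k 1 then
          h.1.all (fun l => Nat.blt l 9) && Nat.blt p 3510 &&
            (let y := twistL x h.1
             !(Nat.beq (imgP y (imgP y p)) p) && !(Nat.beq (imgP y (imgP y (imgP y p))) p))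
        else bif Nat.beq k 2 then
          Nat.blt p 3510 && halfK p h && sameA x [(fullWord h, false)]
        else sameA x []

end CfsgLib.Sporadic.FiTransfer.Involutions
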