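import Cfsg.Agent.Lib.Sporadic.FiTransfer.Involutions.Checks
import Cfsg.Agent.Lib.Sporadic.FiTransfer.PairTwo.Large
import Mathlib.GroupTheory.Sylow

/-!
# A Sylow 2-subgroup of the automorphism group of Fi22
-/

set_option autoImplicit false
set_option maxRecDepth 100000

open Cfsg.Spor
open CfsgLib.Sporadic.CosetCert CfsgLib.Sporadic.CosetCert.FiP CfsgLib.Sporadic.CosetCert.FiP.OutFi22
open CfsgLib.Sporadic.CosetCert.FiData (table)
open CfsgLib.Sporadic.FiTransfer.PairTwo

namespace CfsgLib.Sporadic.FiTransfer.Involutions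

attribute [local irreducible] PTab.img symAt

theorem prodA_append : ∀ A B : List (List ℕ × Bool), prodA (A ++ B) = prodA B * prodA A := by
  intro A
  induction A with
  | nil => intro B; exact (mul_one _).symm
  | cons w t ih => intro B; rw [List.cons_append, prodA, prodA, ih, mul_assoc]

theorem flA_succ (f : ℕ → List (List ℕ × Bool)) (n v : ℕ) :
    flA f (n + 1) v = flA f n v ++ if v.testBit n then f n else [] := by
  simp [flA, List.range_succ, List.flatMap_append]

theorem flA_trunc (f : ℕ → List (List ℕ × Bool)) {k n v : ℕ} (hk : k ≤ n) (hv : v < 2 ^ k) :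
    flA f n v = flA f k v := by
  induction hk with
  | refl => rfl
  | @step m hkm ih =>
    rw [flA_succ, Nat.testBit_lt_two_pow (lt_of_lt_of_le hv (Nat.pow_le_pow_right (by norm_num) hkm)),
      if_neg Bool.false_ne_true, List.append_nil, ih]

theorem flA_top (f : ℕ → List (List ℕ × Bool)) {k v : ℕ} (hv : v < 2 ^ k) :
    flA f (k + 1) (v + 2 ^ k) = flA f k v ++ f k := by
  rw [flA_succ, add_comm v, Nat.testBit_two_pow_add_eq, Nat.testBit_lt_two_pow hv]
  congr 1
  refine List.flatMap_congr fun j hj => ?_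
  rw [Nat.testBit_two_pow_add_gt (List.mem_range.1 hj)]

theorem uIx_lt {k : ℕ} : ∀ g ∈ uIx.getD k [], g < 11 := by
  intro g hg
  rcases Nat.lt_or_ge k 7 with hk | hk
  · have h := pm_ok
    simp only [pmK, Bool.and_eq_true, List.all_eq_true, List.mem_range, Nat.blt_eq] at h
    exact h.1.2 k hk g hg
  · rw [List.getD_eq_default _ _ (by exact hk)] at hg
    exact absurd hg List.not_mem_nil

theorem uW_lt (k : ℕ) : ∀ w ∈ uW k, ∀ x ∈ w.1, x < 9 := by
  intro w hw
  obtain ⟨g, -, rfl⟩ := List.mem_map.1 hw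
  exact cG_lt g

/-- One of the seven. -/
noncomputable def uE (k : ℕ) : MulAut Fi22 := prodA (uW k)

theorem prodA_map_cen : ∀ L : List ℕ, prodA (L.map fun g => cGens.getD g noW) ∈ cenA := by
  intro L
  induction L with
  | nil => exact one_mem _
  | cons g t ih => exact mul_mem ih (cG_mem g)

theorem uE_cen (k : ℕ) : uE k ∈ cenA := prodA_map_cen _

/-- One of the seven in the centraliser. -/
noncomputable def uC (k : ℕ) : cenA := ⟨uE k, uE_cen k⟩

theorem psi_map : ∀ L : List ℕ, (∀ g ∈ L, g < 11) → ∀ i : Fin 40,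
    ((psi ⟨prodA (L.map fun g => cGens.getD g noW), prodA_map_cen L⟩ i : Fin 40) : ℕ) =
      L.foldl (fun u g => (sig.getD g []).getD u 40) (i : ℕ) := by
  intro L
  induction L with
  | nil =>
    intro _ i
    rw [show (⟨prodA ([].map fun g => cGens.getD g noW), prodA_map_cen []⟩ : cenA) = 1 from rfl, map_one]
    rfl
  | cons g t ih =>
    intro h i
    rw [show (⟨prodA ((g :: t).map fun g => cGens.getD g noW), prodA_map_cen (g :: t)⟩ : cenA) =
      ⟨_, prodA_map_cen t⟩ * cGen g from rfl, map_mul, Equiv.Perm.mul_apply,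
      ih (fun x hx => h x (List.mem_cons_of_mem _ hx)), psi_cGen (h g List.mem_cons_self)]
    rfl

theorem psi_uC (k : ℕ) (i : Fin 40) : ((psi (uC k) i : Fin 40) : ℕ) = u40K k (i : ℕ) := psi_map _ uIx_lt i

/-- One of the 128. -/
noncomputable def uA (a : ℕ) : MulAut Fi22 := prodA (uL a)

theorem uA_zero : uA 0 = 1 := by
  rw [uA, uL, flA_trunc _ (Nat.zero_le 7) (by norm_num : 0 < 2 ^ 0)]
  rfl

theorem uA_top {k a : ℕ} (hk : k < 7) (ha : a < 2 ^ k) : uA (a + 2 ^ k) = uE k * uA a := by
  rw [uA, uA, uL, uL, flA_trunc _ (Nat.succ_le_of_lt hk) (by rw [pow_succ]; omega), flA_top _ ha,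
    flA_trunc _ hk.le ha, prodA_append, uE]

theorem uA_cen (a : ℕ) : uA a ∈ cenA := by
  have key : ∀ n, prodA (flA uW n a) ∈ cenA := by
    intro n
    induction n with
    | zero => exact one_mem _
    | succ n ih =>
      rw [flA_succ, prodA_append]
      refine mul_mem ?_ ih
      split
      exacts [uE_cen n, one_mem _]
  exact key 7

/-- One of the 128 in the centraliser. -/
noncomputable def uAC (a : ℕ) : cenA := ⟨uA a, uA_cen a⟩

theorem psi_uAC : ∀ k ≤ 7, ∀ a < 2 ^ k, ∀ i : Fin 40,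
    ((psi (uAC a) i : Fin 40) : ℕ) = (pm.getD a []).getD i 40 := by
  have h := pm_ok
  simp only [pmK, Bool.and_eq_true, List.all_eq_true, List.mem_range] at h
  obtain ⟨⟨⟨h0, h1⟩, -⟩, -⟩ := h
  intro k
  induction k with
  | zero =>
    intro _ a ha i
    obtain rfl : a = 0 := by omega
    rw [show uAC 0 = 1 from Subtype.ext uA_zero, map_one, Nat.eq_of_beq_eq_true (h0 i i.2)]
    rfl
  | succ k ih =>
    intro hk a ha i
    rcases lt_or_ge a (2 ^ k) with hlt | hge
    · exact ih (by omega) a hlt i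
    · obtain ⟨w, rfl⟩ : ∃ w, a = w + 2 ^ k := ⟨a - 2 ^ k, by omega⟩
      have hw : w < 2 ^ k := by rw [pow_succ] at ha; omega
      rw [show uAC (w + 2 ^ k) = uC k * uAC w from Subtype.ext (uA_top (by omega) hw), map_mul,
        Equiv.Perm.mul_apply, psi_uC, ih (by omega) w hw i,
        Nat.eq_of_beq_eq_true (h1 k (by omega) w hw i i.2)]

theorem psi_uAC' {a : ℕ} (ha : a < 128) (i : Fin 40) :
    ((psi (uAC a) i : Fin 40) : ℕ) = (pm.getD a []).getD i 40 := psi_uAC 7 le_rfl a ha i

theorem pm_inj {a b : ℕ} (ha : a < 128) (hb : b < 128) (h : psi (uAC a) = psi (uAC b)) : a = b := by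
  have key : ∀ x < 128, ∀ y < x, ¬ psi (uAC x) = psi (uAC y) := by
    intro x hx y hy e
    have hd := List.all_eq_true.1 (List.all_eq_true.1 pmDist_ok x (List.mem_range.2 hx)) y (List.mem_range.2 hy)
    obtain ⟨i, hi, hne⟩ := List.any_eq_true.1 hd
    rw [List.mem_range] at hi
    have e' : (pm.getD x []).getD i 40 = (pm.getD y []).getD i 40 :=
      by
      rw [← psi_uAC' hx ⟨i, hi⟩, e]; exact psi_uAC' (by omega) ⟨i, hi⟩
    rw [Nat.beq_eq.mpr e'] at hne
    exact Bool.noConfusion hne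
  rcases lt_trichotomy a b with hlt | heq | hgt
  · exact absurd h.symm (key b hb a hlt)
  · exact heq
  · exact absurd h (key a ha b hgt)

/-- The image of the Sylow subgroup on the forty. -/
noncomputable def syl40 : Subgroup (Equiv.Perm (Fin 40)) :=
  Subgroup.closure (Set.range fun k : Fin 7 => psi (uC k))

theorem syl40_cases {π : Equiv.Perm (Fin 40)} (h : π ∈ syl40) : ∃ a < 128, psi (uAC a) = π := by
  have hs := pm_ok
  simp only [pmK, Bool.and_eq_true, List.all_eq_true, List.mem_range] at hs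
  obtain ⟨-, hs⟩ := hs
  suffices key : ∀ a < 128, ∃ b < 128, psi (uAC b) = π * psi (uAC a) by
    obtain ⟨b, hb, e⟩ := key 0 (by norm_num)
    exact ⟨b, hb, by rw [e, show uAC 0 = 1 from Subtype.ext uA_zero, map_one, mul_one]⟩
  induction h using Subgroup.closure_induction with
  | mem x hx =>
    obtain ⟨k, rfl⟩ := hx
    intro a ha
    obtain ⟨hb, himg⟩ := hs a ha k k.2
    have hb' : (stepT.getD a []).getD k 128 < 128 := Nat.le_of_ble_eq_true hb
    refine ⟨_, hb', Equiv.ext fun i => Fin.ext ?_⟩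
    rw [psi_uAC' hb', Equiv.Perm.mul_apply, psi_uC, psi_uAC' ha]
    exact Nat.eq_of_beq_eq_true (himg i i.2)
  | one => intro a ha; exact ⟨a, ha, (one_mul _).symm⟩
  | mul x y _ _ ihx ihy =>
    intro a ha
    obtain ⟨b, hb, e⟩ := ihy a ha
    obtain ⟨c, hc, e'⟩ := ihx b hb
    exact ⟨c, hc, by rw [e', e, mul_assoc]⟩
  | inv x _ ih =>
    intro a ha
    have hpow : ∀ n : ℕ, ∀ a < 128, ∃ b < 128, psi (uAC b) = x ^ n * psi (uAC a) := by
      intro n
      induction n with
      | zero => intro a ha; exact ⟨a, ha, by rw [pow_zero, one_mul]⟩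
      | succ n ihn =>
        intro a ha
        obtain ⟨b, hb, e⟩ := ih a ha
        obtain ⟨c, hc, e'⟩ := ihn b hb
        exact ⟨c, hc, by rw [e', e, pow_succ, mul_assoc]⟩
    obtain ⟨b, hb, e⟩ := hpow (orderOf x - 1) a ha
    refine ⟨b, hb, e.trans ?_⟩
    rw [inv_eq_of_mul_eq_one_left (a := x ^ (orderOf x - 1)) (by
      rw [← pow_succ, Nat.sub_add_cancel (orderOf_pos x), pow_orderOf_eq_one])]

theorem uAC_mem : ∀ k ≤ 7, ∀ a < 2 ^ k, psi (uAC a) ∈ syl40 := by
  intro k
  induction k with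
  | zero =>
    intro _ a ha
    obtain rfl : a = 0 := by omega
    rw [show uAC 0 = 1 from Subtype.ext uA_zero, map_one]
    exact one_mem _
  | succ k ih =>
    intro hk a ha
    rcases lt_or_ge a (2 ^ k) with hlt | hge
    · exact ih (by omega) a hlt
    · obtain ⟨w, rfl⟩ : ∃ w, a = w + 2 ^ k := ⟨a - 2 ^ k, by omega⟩
      have hw : w < 2 ^ k := by rw [pow_succ] at ha; omega
      rw [show uAC (w + 2 ^ k) = uC k * uAC w from Subtype.ext (uA_top (by omega) hw), map_mul]
      exact mul_mem (Subgroup.subset_closure ⟨⟨k, by omega⟩, rfl⟩) (ih (by omega) w hw)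

theorem card_syl40 : Nat.card syl40 = 128 := by
  have hb : Function.Bijective fun a : Fin 128 => (⟨psi (uAC a), uAC_mem 7 le_rfl a a.2⟩ : syl40) := by
    refine ⟨fun a b e => Fin.ext (pm_inj a.2 b.2 (congrArg Subtype.val e)), fun π => ?_⟩
    obtain ⟨a, ha, e⟩ := syl40_cases π.2
    exact ⟨⟨a, ha⟩, Subtype.ext e⟩
  rw [← Nat.card_eq_of_bijective _ hb, Nat.card_fin]

/-- The Sylow subgroup. -/
noncomputable def sylA : Subgroup (MulAut Fi22) := (syl40.comap psi).map cenA.subtype

theorem card_sylA : Nat.card sylA = 2 ^ 18 := by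
  have := finite_aut
  let S := syl40.comap psi
  have hk : psi.ker ≤ S := fun x hx => by
    show psi x ∈ syl40
    rw [MonoidHom.mem_ker.1 hx]; exact one_mem _
  let f := psi.comp S.subtype
  have hr : f.range = syl40 := by
    refine le_antisymm (by rintro _ ⟨x, rfl⟩; exact x.2) fun π hπ => ?_
    obtain ⟨a, -, e⟩ := syl40_cases hπ
    exact ⟨⟨uAC a, show psi (uAC a) ∈ syl40 from e ▸ hπ⟩, e⟩
  have he : f.ker.map S.subtype = psi.ker :=
    le_antisymm (by rintro _ ⟨x, hx, rfl⟩; exact hx) fun x hx => ⟨⟨x, hk hx⟩, hx, rfl⟩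
  have hker : Nat.card f.ker = 2048 := by
    rw [← Subgroup.card_map_of_injective (f := S.subtype) S.subtype_injective, he, card_ker]
  have h := f.ker.card_mul_index
  rw [Subgroup.index_ker, hr, card_syl40, hker] at h
  rw [sylA, Subgroup.card_map_of_injective cenA.subtype_injective, ← h]
  norm_num

theorem card_mulAut : Nat.card (MulAut Fi22) = 2 * 64561751654400 := by
  have := finite_aut
  let H : Subgroup (MulAut Fi22) := (MulAut.conj : Fi22 →* MulAut Fi22).range
  have h : Nat.card (⊤ : Subgroup (MulAut Fi22)) = 2 * Nat.card H :=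
    card_two_cosets le_top (u := sym) (Subgroup.mem_top _) sym_not_inner fun β _ => by
      obtain ⟨g, rfl | rfl⟩ := aut_form β
      · exact Or.inl ⟨g, rfl⟩
      · refine Or.inr ⟨sym g, MulEquiv.ext fun x => ?_⟩
        show _ * x * _⁻¹ = sym (g * sym x * g⁻¹)
        have hss : sym (sym x) = x := symHom_sq x
        simp only [map_mul, map_inv, hss]
  rw [Subgroup.card_top] at h
  rw [h, ← Nat.card_congr (MonoidHom.ofInjective (f := (MulAut.conj : Fi22 →* MulAut Fi22))
    PairTwo.conj_injective).toEquiv, card_eq.1]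

/-- Every involution is conjugate into the subgroup. -/
theorem exists_conj_syl {x : MulAut Fi22} (hx : x * x = 1) : ∃ g, g * x * g⁻¹ ∈ sylA := by
  have := finite_aut
  have : Fact (Nat.Prime 2) := ⟨Nat.prime_two⟩
  have hf : (Nat.card (MulAut Fi22)).factorization 2 = 18 := by
    rw [card_mulAut, show (2 : ℕ) * 64561751654400 = 2 ^ 18 * 492567075 by norm_num,
      Nat.factorization_mul (by norm_num) (by norm_num), Finsupp.add_apply,
      Nat.Prime.factorization_pow Nat.prime_two, Finsupp.single_eq_same,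
      Nat.factorization_eq_zero_of_not_dvd (by norm_num)]
  let T : Sylow 2 (MulAut Fi22) := Sylow.ofCard sylA (by rw [card_sylA, hf])
  have hp : IsPGroup 2 (Subgroup.zpowers x) := by
    obtain ⟨i, -, hi⟩ := (Nat.dvd_prime_pow Nat.prime_two).1 (show orderOf x ∣ 2 ^ 1 from
      orderOf_dvd_of_pow_eq_one (by rw [pow_one, pow_two, hx]))
    exact IsPGroup.of_card (n := i) (by rw [Nat.card_zpowers, hi])
  obtain ⟨P, hP⟩ := hp.exists_le_sylow
  obtain ⟨g, hg⟩ := MulAction.exists_smul_eq (MulAut Fi22) P T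
  refine ⟨g, ?_⟩
  show _ ∈ (T : Subgroup (MulAut Fi22))
  rw [← hg, Sylow.coe_subgroup_smul]
  exact Subgroup.smul_mem_pointwise_smul x (MulAut.conj g) _ (hP (Subgroup.mem_zpowers x))

end CfsgLib.Sporadic.FiTransfer.Involutions
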